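import Cfsg.Agent.H203.E6.Strong

/-!
# SING6 and SING3 in the shape of `Sit.no_add` (helper203)
-/

set_option autoImplicit false

namespace Cfsg.Agent.H163.E6.Sing

open Cfsg.Lie Cfsg.Agent.H203.E6 Module
open Cfsg.Agent.ChevalleyStructure.E6Form.Table (act act_mul act_one act_act_inv act_add act_smul act_zG zG nMat
  nMat_mulVec nv_nv tabr forall_roots)
open Cfsg.Agent.ChevalleyStructure.E6Min.Basic (Zgrp)
open Cfsg.Agent.ChevalleyStructure.E6Min.Adjoint (ad ker_ad)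

universe u

variable {F : Type u} [Field F]

theorem exists_add {B : Subgroup ↥(Zgrp F)}
    (h : ∃ (g : ↥(Zgrp F)) (r : ℕ) (hr : r < 72), ∀ b ∈ B, ∀ t : F,
      b * (g * ⟨zG r t, zG_mem hr t⟩ * g⁻¹) = g * ⟨zG r t, zG_mem hr t⟩ * g⁻¹ * b) :
    ∃ a : (I27 → F) →ₗ[F] (I27 → F), a ≠ 0 ∧ (∀ x, a (a x) = 0) ∧
      ∀ t : F, ∃ g : ↥(Zgrp F), (∀ x, V F g x = x + t • a x) ∧ ∀ b ∈ B, b * g = g * b := by
  obtain ⟨g, r, hr, h⟩ := h
  have hcj : ∀ x : I27 → F, (cj (g : GL I27 F) (nMat F r)).mulVec x =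
      act (g : GL I27 F) ((nMat F r).mulVec (act (g : GL I27 F)⁻¹ x)) := by
    intro x
    rw [cj, ← Matrix.mulVec_mulVec, ← Matrix.mulVec_mulVec]
    rfl
  have hV : ∀ (t : F) (x : I27 → F), V F (g * ⟨zG r t, zG_mem hr t⟩ * g⁻¹) x =
      x + t • Matrix.toLin' (cj (g : GL I27 F) (nMat F r)) x := by
    intro t x
    change act ((g : GL I27 F) * zG r t * (g : GL I27 F)⁻¹) x = _
    rw [Matrix.toLin'_apply, hcj, act_mul, act_mul, act_zG, act_add, act_act_inv, act_smul, nMat_mulVec]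
  refine ⟨Matrix.toLin' (cj (g : GL I27 F) (nMat F r)), ?_, ?_, ?_⟩
  · intro h0
    apply ad_root_ne_one g hr (one_ne_zero (α := F))
    have h1 : g * ⟨zG r 1, zG_mem hr 1⟩ * g⁻¹ = 1 := by
      apply Subtype.ext
      apply Units.ext
      apply Matrix.toLin'.injective
      refine LinearMap.ext fun x => ?_
      have := hV 1 x
      rw [h0, LinearMap.zero_apply, smul_zero, add_zero] at this
      rw [Matrix.toLin'_apply]
      change V F (g * ⟨zG r 1, zG_mem hr 1⟩ * g⁻¹) x = _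
      rw [this]
      simp
    rw [h1, map_one]
  · intro x
    rw [Matrix.toLin'_apply, Matrix.toLin'_apply, hcj, hcj]
    rw [Cfsg.Agent.ChevalleyStructure.E6Form.Table.act_inv_act, nMat_mulVec, nMat_mulVec, nv_nv]
    exact Matrix.mulVec_zero _
  · intro t
    exact ⟨_, hV t, fun b hb => h b hb t⟩

/-- SING6 in the shape of `Sit.no_add`. -/
theorem six_add (ρ : Representation F ↥(Zgrp F) (I27 → F)) (hρ : ρ = V F ∨ ρ = V' F) {B : Subgroup ↥(Zgrp F)}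
    (hB : ⁅B, B⁆ = B) {W : Submodule F (I27 → F)} (h6 : finrank F ↥W = 6) (hW : TS W)
    (hst : ∀ b ∈ B, ∀ w ∈ W, ρ b w ∈ W) :
    ∃ a : (I27 → F) →ₗ[F] (I27 → F), a ≠ 0 ∧ (∀ x, a (a x) = 0) ∧
      ∀ t : F, ∃ g : ↥(Zgrp F), (∀ x, V F g x = x + t • a x) ∧ ∀ b ∈ B, b * g = g * b :=
  exists_add (six' ρ hρ hB h6 hW hst)

/-- SING3 in the shape of `Sit.no_add`. -/
theorem three_add (ρ : Representation F ↥(Zgrp F) (I27 → F)) (hρ : ρ = V F ∨ ρ = V' F) {B : Subgroup ↥(Zgrp F)}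
    (hB : ∀ θ : ↥B →* GL (Fin 2) F, ∀ b, θ b = 1) {W : Submodule F (I27 → F)} (h3 : finrank F ↥W = 3) (hW : TS W)
    (hst : ∀ b ∈ B, ∀ w ∈ W, ρ b w ∈ W) :
    ∃ a : (I27 → F) →ₗ[F] (I27 → F), a ≠ 0 ∧ (∀ x, a (a x) = 0) ∧
      ∀ t : F, ∃ g : ↥(Zgrp F), (∀ x, V F g x = x + t • a x) ∧ ∀ b ∈ B, b * g = g * b :=
  exists_add (three' ρ hρ hB h3 hW hst)

/-- Totally singular subspaces have dimension at most six. -/
theorem finrank_le_six {W : Submodule F (I27 → F)} (hW : TS W) : finrank F ↥W ≤ 6 :=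
  Cfsg.Agent.H203.E6.finrank_le_six (TS_of hW)

end Cfsg.Agent.H163.E6.Sing
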