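import Cfsg.Agent.H203.E6.Base
import Cfsg.Agent.H163.E6.Defs

/-!
# The number of singular vectors (helper203)
-/

set_option autoImplicit false

namespace Cfsg.Agent.H203.E6

open Cfsg.Lie Cfsg.Agent.ChevalleyStructure Cfsg.Agent.ChevalleyStructure.E6Form.Cubic
  Cfsg.Agent.ChevalleyStructure.E6Form.Elim Module
open Cfsg.Agent.H952.F4 (sh)


universe u

variable {F : Type u} [Field F]

/-- Two singular vectors with the same nonzero coordinate `l` and the same coordinates at the weights collinear with `l`
agree. -/
theorem sing_agree {x y : I27 → F} (hx : Singular x) (hy : Singular y) {l : I27} (hl : x l ≠ 0) (h0 : x l = y l)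
    (h1 : ∀ b, ip l b = 1 → x b = y b) {c : I27} (hc : nc l c = true) : x c = y c := by
  have hQ := hx (e F (th l c))
  have hQ' := hy (e F (th l c))
  rw [Q_eq_L3] at hQ hQ'
  have h := forall_wts (p := fun l => wts.all fun c => !(nc l c) ||
    (L3.all fun t => !(t.2.2.2 == th l c) || ((ip l t.2.1 == 1) && (ip l t.2.2.1 == 1)) ||
      ((t.1 == sg l c) && (((t.2.1 == l) && (t.2.2.1 == c)) || ((t.2.1 == c) && (t.2.2.1 == l)))))
      && ((L3.filter fun t => (t.2.2.2 == th l c) && !((ip l t.2.1 == 1) && (ip l t.2.2.1 == 1))).length == 1))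
      (by decide +kernel) l
  have h' := forall_wts h c
  simp only [hc, Bool.not_true, Bool.false_or, Bool.and_eq_true, beq_iff_eq] at h'
  obtain ⟨hA, hB⟩ := h'
  have key : ∀ L : List (ℤ × I27 × I27 × I27),
      (L.all fun t => !(t.2.2.2 == th l c) || ((ip l t.2.1 == 1) && (ip l t.2.2.1 == 1)) ||
      ((t.1 == sg l c) && (((t.2.1 == l) && (t.2.2.1 == c)) || ((t.2.1 == c) && (t.2.2.1 == l))))) = true →
      (L.map fun t => term t x x (e F (th l c))).sum - (L.map fun t => term t y y (e F (th l c))).sum =
      ((L.filter fun t => (t.2.2.2 == th l c) && !((ip l t.2.1 == 1) && (ip l t.2.2.1 == 1))).length : F) *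
        ((sg l c : F) * (x l * (x c - y c))) := by
    intro L hL
    induction L with
    | nil => simp
    | cons t L ih =>
      rw [List.all_cons, Bool.and_eq_true] at hL
      have ih := ih hL.2
      rw [List.map_cons, List.sum_cons, List.map_cons, List.sum_cons, List.filter_cons]
      have e1 : ∀ a b c' d : F, a + b - (c' + d) = (a - c') + (b - d) := fun a b c' d => by ring
      rw [e1, ih]
      by_cases h3 : t.2.2.2 = th l c
      · by_cases h4 : ip l t.2.1 = 1 ∧ ip l t.2.2.1 = 1
        · rw [if_neg (by simp [h4.1, h4.2]), term, term, h1 _ h4.1, h1 _ h4.2]; ring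
        · have h5 : ((ip l t.2.1 == 1) && (ip l t.2.2.1 == 1)) = false := by
            rw [Bool.and_eq_false_iff, beq_eq_false_iff_ne, beq_eq_false_iff_ne]
            by_contra hcon
            push Not at hcon
            exact h4 hcon
          rw [if_pos (by rw [h5, h3]; simp)]
          have := hL.1
          rw [h5, h3] at this
          simp only [beq_self_eq_true, Bool.not_true, Bool.false_or, Bool.and_eq_true, Bool.or_eq_true,
            beq_iff_eq] at this
          rw [List.length_cons, Nat.cast_succ, term, term, h3, e_self]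
          obtain ⟨h6, h7 | h7⟩ := this
          · rw [h6, h7.1, h7.2, ← h0]; ring
          · rw [h6, h7.1, h7.2, ← h0]; ring
      · rw [if_neg (by simp [h3]), term, term, e_ne h3]; ring
  have hk := key L3 hA
  rw [hQ, hQ', hB, Nat.cast_one, one_mul, sub_zero] at hk
  have h2 := (mul_eq_zero.1 hk.symm).resolve_left (sg_ne_zero hc)
  exact sub_eq_zero.1 ((mul_eq_zero.1 h2).resolve_left hl)

/-- The sixteen weights collinear with `l`. -/
def col (l : I27) : Finset I27 := Finset.univ.filter fun b => ip l b = 1

theorem card_col (l : I27) : (col l).card = 16 := by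
  have h := forall_wts (p := fun l => ((col l).card == 16)) (by decide +kernel) l
  simpa using h

/-- **The number of singular vectors.** -/
theorem card_sing [Finite F] : Nat.card {v : I27 → F // v ≠ 0 ∧ sh v = 0} ≤ 27 * Nat.card F ^ 17 := by
  classical
  have : Fintype F := Fintype.ofFinite F
  let g : {v : I27 → F // v ≠ 0 ∧ sh v = 0} → Σ l : I27, F × (↥(col l) → F) := fun v =>
    have h : ∃ l, v.1 l ≠ 0 := by
      by_contra hcon
      push Not at hcon
      exact v.2.1 (funext hcon)
    ⟨h.choose, v.1 h.choose, fun b => v.1 b⟩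
  have hinj : Function.Injective g := by
    intro v w hvw
    apply Subtype.ext
    have hv : ∃ l, v.1 l ≠ 0 := by
      by_contra hcon
      push Not at hcon
      exact v.2.1 (funext hcon)
    have hw : ∃ l, w.1 l ≠ 0 := by
      by_contra hcon
      push Not at hcon
      exact w.2.1 (funext hcon)
    change (⟨hv.choose, v.1 hv.choose, fun b => v.1 b⟩ : Σ l : I27, F × (↥(col l) → F)) =
      ⟨hw.choose, w.1 hw.choose, fun b => w.1 b⟩ at hvw
    have hl := hv.choose_spec
    revert hvw hl
    generalize hv.choose = l
    generalize hw.choose = m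
    intro hvw hl
    obtain ⟨rfl, h2⟩ := Sigma.mk.inj_iff.1 hvw
    obtain ⟨h3, h4⟩ := Prod.ext_iff.1 (eq_of_heq h2)
    have h5 : ∀ b, ip l b = 1 → v.1 b = w.1 b := fun b hb =>
      congrFun h4 ⟨b, by simp [col, hb]⟩
    funext d
    rcases ip_cases l d with h6 | h6 | h6
    · rw [← h6.2]; exact h3
    · exact h5 d h6.1
    · exact sing_agree ((singular_iff _).2 v.2.2) ((singular_iff _).2 w.2.2) hl h3 h5 h6.2.2
  refine (Nat.card_le_card_of_injective g hinj).trans ?_
  rw [Nat.card_eq_fintype_card, Fintype.card_sigma]
  have h1 : ∀ l : I27, Fintype.card (F × (↥(col l) → F)) = Nat.card F ^ 17 := by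
    intro l
    rw [Fintype.card_prod, Fintype.card_fun, Fintype.card_coe, card_col, Nat.card_eq_fintype_card]
    ring
  rw [Finset.sum_congr rfl fun l _ => h1 l, Finset.sum_const, smul_eq_mul]
  simp

end Cfsg.Agent.H203.E6
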